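import Groth.Agent.CurveHurwitz.Basic
import Groth.Agent.InvX.Tensor
import Groth.Agent.FittX.Sheaf
import Groth.Agent.Lib.KoszulSheaf
import Groth.Agent.DivX.MeroMod
import Groth.Agent.OmegaLib.IdealMod
import Groth.Agent.S8914

/-!
The different of a separable cover: the cokernel of an inclusion of invertible modules twists by its
Fitting ideal.
-/

set_option autoImplicit false
set_option linter.style.haveILetI false
set_option linter.unusedSectionVars false
set_option backward.isDefEq.respectTransparency false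
set_option backward.isDefEq.respectTransparency.types false
set_option maxHeartbeats 1000000

universe u

open CategoryTheory CategoryTheory.Limits AlgebraicGeometry TopologicalSpace Opposite

noncomputable section

namespace Groth.Agent.CurveRam

open InvX

variable {X : Scheme.{u}} [IsIntegral X] {P M Q : X.Modules} {c : P ⟶ M} {q : M ⟶ Q} {w : c ≫ q = 0}

theorem ideal_eq (hS : (ShortComplex.mk c q w).ShortExact) (hM : Coh.IsQCoh M) (hQ : Coh.IsQCoh Q)
    (hQft : CohB1.IsFT Q) {U : X.Opens} (hU : IsAffineOpen U) [Nonempty U] {p : Γ(P, U)} (hp : IsFrame p)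
    {m : Γ(M, U)} (hm : IsFrame m) {s : Γ(X, U)} (hs : c.app U p = s • m) :
    s ≠ 0 ∧ (Fitt.sheafIdeal Q 0).ideal ⟨U, hU⟩ = Ideal.span {s} := by
  haveI : Epi q := hS.epi_g
  obtain ⟨hinj, hex⟩ := Groth.Agent.Lib.KoszulSheaf.sections_exact hS U
  have hqm : q.app U (s • m) = 0 := by
    rw [← hs]
    exact congrArg (fun φ : P ⟶ Q => φ.app U p) w
  refine ⟨fun h0 => ?_, ?_⟩
  · rw [h0, zero_smul] at hs
    have hp0 : p = 0 := hinj (hs.trans (map_zero _).symm)
    have := (hp U le_rfl).1 (a₁ := 1) (a₂ := 0) (by simp [AModX.res_self, hp0])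
    exact one_ne_zero this
  rw [FittX.sheafIdeal_ideal hQ hQft]
  haveI := QCoh.finite_of_isFT hQ hQft hU
  have hspan : ∀ y : Γ(Q, U), ∃ r : Γ(X, U), r • q.app U m = y := fun y => by
    obtain ⟨z, rfl⟩ := QCoh.app_surjective_of_epi hM hQ q hU y
    obtain ⟨r, rfl⟩ := hm.exists_coord le_rfl z
    exact ⟨r, by rw [AModX.res_self, Scheme.Modules.Hom.app_smul]⟩
  refine le_antisymm (fun d hd => ?_) ?_
  · have hd' := Module.mem_annihilator.1 (FittX.ideal_annihilator hd) (q.app U m)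
    rw [← Scheme.Modules.Hom.app_smul] at hd'
    obtain ⟨z, hz⟩ := hex _ hd'
    obtain ⟨r, rfl⟩ := hp.exists_coord le_rfl z
    rw [AModX.res_self, Scheme.Modules.Hom.app_smul] at hz
    simp only at hz
    rw [hs, ← mul_smul] at hz
    refine Ideal.mem_span_singleton'.2 ⟨r, ?_⟩
    have := (hm U le_rfl).1 (a₁ := r * s) (a₂ := d) (by simpa [AModX.res_self] using hz)
    exact this
  · rw [Ideal.span_singleton_le_iff_mem]
    refine Ideal.subset_span ⟨1, fun _ => q.app U m, Matrix.of fun _ _ => s, ?_, fun i _ => ?_, ?_⟩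
    · refine eq_top_iff.2 fun y _ => ?_
      obtain ⟨r, rfl⟩ := hspan y
      exact Submodule.smul_mem _ r (Submodule.subset_span ⟨0, rfl⟩)
    · simp only [Finset.univ_unique, Finset.sum_singleton, Matrix.of_apply]
      rw [← Scheme.Modules.Hom.app_smul]
      exact hqm
    · simp

/-- `M ⊗ Fitt₀ (M / P) ≅ P`. -/
theorem nonempty_tensor_fitt_iso (hS : (ShortComplex.mk c q w).ShortExact) (hP : PicF.IsInvertible P)
    (hM : PicF.IsInvertible M) (hQ : Coh.IsQCoh Q) (hQft : CohB1.IsFT Q) :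
    Nonempty (CohB1.tensorMod M (ClSub.idealMod (Fitt.sheafIdeal Q 0)) ≅ P) := by
  classical
  set I := Fitt.sheafIdeal Q 0 with hI
  have hMq : Coh.IsQCoh M := QCoh.isQCoh_of_isFinLocFree (H23.PullPush.isFinLocFree_of_isInvertible hM)
  have hloc : ∀ x : X, ∃ (U : X.Opens) (hU : IsAffineOpen U) (_ : x ∈ U) (p : Γ(P, U)) (m : Γ(M, U))
      (s : Γ(X, U)), IsFrame p ∧ IsFrame m ∧ c.app U p = s • m ∧ s ≠ 0 ∧
        I.ideal ⟨U, hU⟩ = Ideal.span {s} := fun x => by
    obtain ⟨U₁, h₁, p, hp⟩ := InvX.exists_frame hP x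
    obtain ⟨U₂, h₂, m, hm⟩ := InvX.exists_frame hM x
    obtain ⟨U, hU, hxU, hle⟩ := exists_isAffineOpen_mem_and_subset
      (show x ∈ U₁ ⊓ U₂ from ⟨h₁, h₂⟩)
    obtain ⟨s, hs⟩ := (hm.res (hle.trans inf_le_right)).exists_coord le_rfl
      (c.app U (AModX.res P (hle.trans inf_le_left) p))
    rw [AModX.res_self] at hs
    haveI : Nonempty U := ⟨⟨x, hxU⟩⟩
    exact ⟨U, hU, hxU, _, _, s, hp.res _, hm.res _, hs,
      ideal_eq hS hMq hQ hQft hU (hp.res _) (hm.res _) hs⟩
  have hC : PicF.IsInvertible (ClSub.idealMod I) := (S8914.result I).2 fun x => by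
    obtain ⟨U, hU, hx, p, m, s, -, -, -, hs0, hIU⟩ := hloc x
    haveI : Nonempty U := ⟨⟨x, hx⟩⟩
    exact ⟨⟨U, hU⟩, hx, s, mem_nonZeroDivisors_of_ne_zero hs0, hIU⟩
  have hdata : ∀ x : X, ∃ (U : X.Opens) (_ : x ∈ U) (p : Γ(P, U)) (m : Γ(M, U))
      (k : Γ(ClSub.idealMod I, U)), IsFrame p ∧ IsFrame m ∧ IsFrame k ∧
        c.app U p = OmegaSh.idealSect I U k • m := fun x => by
    obtain ⟨U₀, hU₀, hx₀, p, m, s, hp, hm, hs, -, -⟩ := hloc x
    obtain ⟨U₁, h₁, k₀, hk₀⟩ := InvX.exists_frame hC x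
    obtain ⟨U, hU, hxU, hle⟩ := exists_isAffineOpen_mem_and_subset
      (show x ∈ U₀ ⊓ U₁ from ⟨hx₀, h₁⟩)
    haveI : Nonempty U := ⟨⟨x, hxU⟩⟩
    have hU₀' : U ≤ U₀ := hle.trans inf_le_left
    let p' := AModX.res P hU₀' p
    let m' := AModX.res M hU₀' m
    let k₁ := AModX.res (ClSub.idealMod I) (hle.trans inf_le_right) k₀
    have hk₁ : IsFrame k₁ := hk₀.res _
    obtain ⟨s', hs'⟩ : ∃ s', c.app U p' = s' • m' := ⟨AModX.resR hU₀' s, by
      show c.app U (AModX.res P hU₀' p) = _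
      rw [AModX.app_res, hs, AModX.res_smul]⟩
    obtain ⟨hs0, hIU⟩ := ideal_eq hS hMq hQ hQft hU (hp.res hU₀') (hm.res hU₀') hs'
    have ht : Ideal.span {OmegaSh.idealSect I U k₁} = Ideal.span {s'} := by
      rw [← hIU]
      refine le_antisymm ?_ fun g hg => ?_
      · rw [Ideal.span_singleton_le_iff_mem]
        exact OmegaLib.idealSect_mem I ⟨U, hU⟩ k₁
      · obtain ⟨k, rfl⟩ := OmegaLib.exists_of_mem I ⟨U, hU⟩ g hg
        obtain ⟨r, rfl⟩ := hk₁.exists_coord le_rfl k
        rw [AModX.res_self, OmegaLib.idealSect_smul]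
        exact Ideal.mem_span_singleton'.2 ⟨r, rfl⟩
    obtain ⟨v, hv⟩ := Ideal.span_singleton_eq_span_singleton.1 ht
    refine ⟨U, hxU, p', m', (v : Γ(X, U)) • k₁, hp.res _, hm.res _, hk₁.isUnit_smul v.isUnit, ?_⟩
    rw [OmegaLib.idealSect_smul, mul_comm, hv]
    exact hs'
  choose U hxU p m k hp hm hk hc using hdata
  have hcompat : ∀ (a b : X) (W : X.Opens) (ha : W ≤ U a) (hb : W ≤ U b) (g : Γ(X, W)),
      AModX.res P hb (p b) = g • AModX.res P ha (p a) →
      AModX.res _ hb (InvX.tmul (m b) (k b)) = g • AModX.res _ ha (InvX.tmul (m a) (k a)) := by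
    intro a b W ha hb g hg
    obtain ⟨h, hh⟩ := (hm a).exists_coord ha (AModX.res M hb (m b))
    have e1 : ∀ (z : X) (hz : W ≤ U z), c.app W (AModX.res P hz (p z)) =
        OmegaSh.idealSect I W (AModX.res _ hz (k z)) • AModX.res M hz (m z) := fun z hz => by
      rw [AModX.app_res, hc z, AModX.res_smul]
      congr 1
      exact (OmegaLib.idealSect_map I hz (k z)).symm
    have e2 := congrArg (c.app W) hg
    simp only [Scheme.Modules.Hom.app_smul] at e2
    rw [e1 b hb, e1 a ha, hh, ← mul_smul, ← mul_smul] at e2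
    have e3 := (hm a).coord_unique ha e2
    have e4 : h • AModX.res _ hb (k b) = g • AModX.res _ ha (k a) := by
      refine OmegaLib.idealSect_injective I W ?_
      rw [OmegaLib.idealSect_smul, OmegaLib.idealSect_smul, ← e3, mul_comm]
    rw [InvX.res_tmul, InvX.res_tmul, hh, InvX.tmul_smul_left, ← InvX.tmul_smul_right, e4,
      InvX.tmul_smul_right]
  let φ := InvX.ofFrames (N := CohB1.tensorMod M (ClSub.idealMod I))
    (n := fun a => InvX.tmul (m a) (k a)) (fun x => ⟨x, hxU x⟩) hp hcompat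
  haveI : IsIso φ := DivX.isIso_of_frames φ fun x => ⟨U x, hxU x, p x, hp x, by
    rw [InvX.ofFrames_app]
    exact InvX.isFrame_tmul (hm x) (hk x)⟩
  exact ⟨(asIso φ).symm⟩

variable {Y : Scheme.{u}} [IsIntegral Y] (k : Type u) [Field k] [X.Over (Spec (CommRingCat.of k))]
  [Y.Over (Spec (CommRingCat.of k))] [IsProper (X ↘ Spec (CommRingCat.of k))]
  [IsProper (Y ↘ Spec (CommRingCat.of k))] {f : X ⟶ Y} [IsFinite f]

include k in
theorem ramification [Smooth (X ↘ Spec (CommRingCat.of k))] [Smooth (Y ↘ Spec (CommRingCat.of k))]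
    (hdX : topologicalKrullDim X = 1) (hdY : topologicalKrullDim Y = 1)
    (hX0 : Module.finrank k (Coh.HH X (Coh.structureModule X) 0) = 1)
    (hY0 : Module.finrank k (Coh.HH Y (Coh.structureModule Y) 0) = 1)
    (hf : f ≫ (Y ↘ Spec (CommRingCat.of k)) = X ↘ Spec (CommRingCat.of k))
    (e : f (genericPoint X) = genericPoint Y)
    (hsep : letI := (CurveTrace.ff e).toAlgebra; Algebra.IsSeparable Y.functionField X.functionField) :
    Nonempty (CohB1.tensorMod (Omega.sheaf (X ↘ Spec (CommRingCat.of k)))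
        (ClSub.idealMod (Fitt.sheafIdeal (Omega.sheaf f) 0)) ≅
      (Scheme.Modules.pullback f).obj (Omega.sheaf (Y ↘ Spec (CommRingCat.of k)))) := by
  haveI := CurveCohLib.isNoetherian_of_proper (k := k) (X := X)
  haveI := CurveCohLib.isNoetherian_of_proper (k := k) (X := Y)
  let g := Y ↘ Spec (CommRingCat.of k)
  have hΩY : PicF.IsInvertible (Omega.sheaf g) := CurveBC.isInvertible_omega k Y hdY hY0
  have hΩX : PicF.IsInvertible (Omega.sheaf (f ≫ g)) := by rw [hf]; exact CurveBC.isInvertible_omega k X hdX hX0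
  have hP : PicF.IsInvertible ((Scheme.Modules.pullback f).obj (Omega.sheaf g)) := PicClLib.isInvertible_pullback f hΩY
  obtain ⟨c₁, hc₁, -⟩ := S9370.result g (f ≫ g) f (𝟙 _) (by rw [Category.comp_id]) _ _
    (OmegaUniv.isUniversal_dOmega g) _ _ (OmegaUniv.isUniversal_dOmega (f ≫ g))
  obtain ⟨c₂, hc₂, -⟩ := S9370.result (f ≫ g) f (𝟙 X) g (by rw [Category.id_comp]) _ _
    (OmegaUniv.isUniversal_dOmega (f ≫ g)) _ _ (OmegaUniv.isUniversal_dOmega f)
  obtain ⟨hepi, him⟩ := S5975.result f g _ _ (OmegaUniv.isUniversal_dOmega g) _ _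
    (OmegaUniv.isUniversal_dOmega (f ≫ g)) _ _ (OmegaUniv.isUniversal_dOmega f) c₁ hc₁ c₂ hc₂
  let q := (Scheme.Modules.pullbackId X).inv.app (Omega.sheaf (f ≫ g)) ≫ c₂
  haveI : Epi q := epi_comp _ _
  have hw : c₁ ≫ q = 0 := by
    rw [← imageSubobject_arrow_comp c₁, Category.assoc]
    have : (imageSubobject c₁).arrow ≫ q = 0 := by rw [him]; exact kernelSubobject_arrow_comp q
    rw [this, comp_zero]
  have hex : (ShortComplex.mk c₁ q hw).Exact := (ShortComplex.mk c₁ q hw).exact_iff_image_eq_kernel.2 him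
  have hne : c₁ ≠ 0 := fun h0 => by
    haveI : Mono q := hex.mono_g h0
    haveI : IsIso q := isIso_of_mono_of_epi q
    have hΩc := AmpleVan.isCoh_invertible hΩX
    have hη : genericPoint X ∉ CohB1.support (Omega.sheaf (f ≫ g)) := by
      rw [show CohB1.support (Omega.sheaf (f ≫ g)) = CohB1.support (Omega.sheaf f) from
        QCoh.support_iso (M := Omega.sheaf (f ≫ g)) (asIso q) hΩc.1]
      exact CurveHurwitz.notMem_support_omega e hsep
    have h1 : CurveBundle.rk (Omega.sheaf (f ≫ g)) = 1 := CurveBundle.rk_eq (InvEnd.isFinLocFreeOfRank_one hΩX)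
    haveI : Subsingleton ((Omega.sheaf (f ≫ g)).presheaf.stalk (genericPoint X)) := not_not.1 hη
    unfold CurveBundle.rk at h1
    rw [Module.finrank_zero_of_subsingleton] at h1
    exact zero_ne_one h1
  haveI : Mono c₁ := InvEnd.mono_of_ne_zero hP hΩX _ hne
  have hS : (ShortComplex.mk c₁ q hw).ShortExact := .mk' hex inferInstance inferInstance
  have hPc := AmpleVan.isCoh_invertible hP
  have hXc := AmpleVan.isCoh_invertible hΩX
  have hQ : Coh.IsCoh (Omega.sheaf f) :=
    QCoh.isCoh_of_epi q hXc ((QCoh.isQCoh_iff_iso (hS.gIsCokernel.coconePointUniqueUpToIso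
      (cokernelIsCokernel c₁))).2 (QCoh.isQCoh_cokernel hPc.1 hXc.1 c₁))
  have := nonempty_tensor_fitt_iso hS hP hΩX hQ.1 hQ.2
  rwa [show f ≫ g = X ↘ Spec (CommRingCat.of k) from hf] at this

end Groth.Agent.CurveRam
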